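import Groth.Agent.CurveGenusCmp.Finite
import Groth.Agent.CurveBC.Geometry
import Groth.Agent.CMClosed.Basic
import Groth.Agent.Triage.SliceCM
import Groth.Agent.S3029
import Groth.Agent.Lib.Euler

/-!
# Proper one-dimensional schemes with no non-constant functions
-/

set_option linter.style.haveILetI false
set_option backward.isDefEq.respectTransparency false
set_option backward.isDefEq.respectTransparency.types false

universe u

open CategoryTheory CategoryTheory.Limits AlgebraicGeometry TopologicalSpace Opposite IsLocalRing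

namespace Groth.Agent.CurveGenusCmp

variable {X : Scheme.{u}}

theorem exists_global_germ [IsLocallyNoetherian X] {x : X} (hx : IsClosed ({x} : Set X))
    (a : X.presheaf.stalk x) (ha : ∀ b ∈ maximalIdeal (X.presheaf.stalk x), b * a = 0) :
    ∃ g : Γ(X, ⊤), X.presheaf.germ ⊤ x trivial g = a := by
  obtain ⟨V, hxV, t, rfl⟩ := TopCat.Presheaf.exists_germ_eq X.presheaf a
  obtain ⟨W, hW, hxW, hWV⟩ := exists_isAffineOpen_mem_and_subset (x := x) (U := V) hxV
  let t' : Γ(X, W) := X.presheaf.map (homOfLE hWV).op t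
  have ht' : X.presheaf.germ W x hxW t' = X.presheaf.germ V x hxV t :=
    X.presheaf.germ_res_apply (homOfLE hWV) x hxW t
  haveI : IsNoetherianRing Γ(X, W) := IsLocallyNoetherian.component_noetherian ⟨W, hW⟩
  let P := (hW.primeIdealOf ⟨x, hxW⟩).asIdeal
  letI : Algebra Γ(X, W) (X.presheaf.stalk x) := (X.presheaf.germ W x hxW).hom.toAlgebra
  haveI : IsLocalization.AtPrime (X.presheaf.stalk x) P := hW.isLocalization_stalk ⟨x, hxW⟩
  obtain ⟨S, hS⟩ := (IsNoetherian.noetherian P : P.FG)
  have hann : ∀ b ∈ P, ∃ c ∉ P, c * (b * t') = 0 := fun b hb => by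
    have hbm : X.presheaf.germ W x hxW b ∈ maximalIdeal (X.presheaf.stalk x) :=
      (IsLocalization.AtPrime.to_map_mem_maximal_iff (X.presheaf.stalk x) P b inferInstance).2 hb
    have h0 : algebraMap Γ(X, W) (X.presheaf.stalk x) (b * t') = 0 := by
      rw [map_mul]
      show X.presheaf.germ W x hxW b * X.presheaf.germ W x hxW t' = 0
      rw [ht']; exact ha _ hbm
    obtain ⟨⟨c, hc⟩, hc0⟩ := (IsLocalization.map_eq_zero_iff P.primeCompl _ _).1 h0
    exact ⟨c, hc, hc0⟩
  choose c hc hc0 using hann
  classical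
  let C : Γ(X, W) := ∏ b ∈ S.attach, c b.1 (hS ▸ Ideal.subset_span b.2)
  have hC : C ∉ P := fun h => by
    obtain ⟨b, -, hb⟩ := (Ideal.IsPrime.prod_mem_iff (p := P)).1 h
    exact hc _ _ hb
  have hkill : ∀ b ∈ P, C * (b * t') = 0 := fun b hb => by
    rw [← hS] at hb
    induction hb using Submodule.span_induction with
    | mem b hb =>
      have := Finset.dvd_prod_of_mem (fun z : S => c z.1 (hS ▸ Ideal.subset_span z.2))
        (Finset.mem_attach S ⟨b, hb⟩)
      obtain ⟨d, hd⟩ := this
      show (∏ z ∈ S.attach, c z.1 _) * _ = _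
      rw [hd, mul_comm (c b _) d, mul_assoc, hc0, mul_zero]
    | zero => rw [zero_mul, mul_zero]
    | add y z _ _ hy hz => rw [add_mul, mul_add, hy, hz, add_zero]
    | smul r y _ hy => rw [smul_eq_mul, mul_assoc, mul_left_comm, hy, mul_zero]
  let N : X.Opens := X.basicOpen C
  let O : X.Opens := ⟨{x}ᶜ, hx.isOpen_compl⟩
  have hNW : N ≤ W := X.basicOpen_le C
  let t'' : Γ(X, N) := X.presheaf.map (homOfLE hNW).op t'
  have hxN : x ∈ N := by
    rw [Scheme.mem_basicOpen X C x hxW]
    exact IsLocalization.map_units (X.presheaf.stalk x) (⟨C, hC⟩ : P.primeCompl)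
  have hzero : X.presheaf.map (homOfLE (inf_le_left : N ⊓ O ≤ N)).op t'' = 0 := by
    refine TopCat.Presheaf.section_ext X.sheaf _ _ _ fun y hy => ?_
    show X.presheaf.germ _ y hy _ = X.presheaf.germ _ y hy 0
    rw [map_zero, X.presheaf.germ_res_apply, X.presheaf.germ_res_apply]
    have hyW : y ∈ W := hNW hy.1
    let Q := (hW.primeIdealOf ⟨y, hyW⟩).asIdeal
    have hPQ : ¬ P ≤ Q := fun hle => hy.2 (by
      have hPm : P.IsMaximal := by
        have hcl : IsClosed ({hW.primeIdealOf ⟨x, hxW⟩} : Set (Spec Γ(X, W))) := by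
          have : ({hW.primeIdealOf ⟨x, hxW⟩} : Set (Spec Γ(X, W))) = hW.fromSpec ⁻¹' {x} := by
            ext z
            refine ⟨fun h => by rw [Set.mem_singleton_iff.1 h]; exact hW.fromSpec_primeIdealOf _, fun h => ?_⟩
            exact hW.fromSpec.isOpenEmbedding.injective ((Set.mem_singleton_iff.1 h).trans (hW.fromSpec_primeIdealOf ⟨x, hxW⟩).symm)
          rw [this]; exact hx.preimage hW.fromSpec.continuous
        exact (PrimeSpectrum.isClosed_singleton_iff_isMaximal _).1 hcl
      have e : hW.primeIdealOf ⟨x, hxW⟩ = hW.primeIdealOf ⟨y, hyW⟩ :=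
        PrimeSpectrum.ext (hPm.eq_of_le Ideal.IsPrime.ne_top' hle)
      have := congrArg hW.fromSpec e
      rw [hW.fromSpec_primeIdealOf, hW.fromSpec_primeIdealOf] at this
      exact this.symm)
    obtain ⟨b, hbP, hbQ⟩ := Set.not_subset.1 hPQ
    letI : Algebra Γ(X, W) (X.presheaf.stalk y) := (X.presheaf.germ W y hyW).hom.toAlgebra
    haveI : IsLocalization.AtPrime (X.presheaf.stalk y) Q := hW.isLocalization_stalk ⟨y, hyW⟩
    have hCQ : C ∉ Q := fun h => by
      have := (Scheme.mem_basicOpen X C y hyW).1 hy.1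
      exact (IsLocalization.AtPrime.to_map_mem_maximal_iff (X.presheaf.stalk y) Q C inferInstance).2 h this
    refine (IsLocalization.map_eq_zero_iff Q.primeCompl (X.presheaf.stalk y) t').2
      ⟨⟨C * b, fun h => (Ideal.IsPrime.mem_or_mem inferInstance h).elim hCQ hbQ⟩, ?_⟩
    rw [mul_assoc]
    exact hkill b hbP
  let sec : ∀ b : Bool, Γ(X, cond b N O) := fun b => Bool.rec (motive := fun b => Γ(X, cond b N O)) 0 t'' b
  obtain ⟨g, hg, -⟩ := X.sheaf.existsUnique_gluing' (fun b => cond b N O) ⊤ (fun b => homOfLE le_top)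
    (fun y _ => by
      by_cases hyx : y = x
      · exact Opens.mem_iSup.2 ⟨true, hyx ▸ hxN⟩
      · exact Opens.mem_iSup.2 ⟨false, hyx⟩) sec
    (fun a b => by
      cases a <;> cases b
      · rfl
      · show X.presheaf.map _ 0 = X.presheaf.map (homOfLE (inf_le_right : O ⊓ N ≤ N)).op t''
        rw [map_zero]
        have := congrArg (X.presheaf.map (homOfLE (inf_comm O N).le).op) hzero
        rw [map_zero, ← CommRingCat.comp_apply, ← Functor.map_comp] at this
        exact this.symm
      · show X.presheaf.map (homOfLE (inf_le_left : N ⊓ O ≤ N)).op t'' = X.presheaf.map _ 0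
        rw [map_zero]; exact hzero
      · rfl)
  refine ⟨g, ?_⟩
  refine (X.presheaf.germ_res_apply (homOfLE (le_top : N ≤ ⊤)) x hxN g).symm.trans ?_
  refine (congrArg (X.presheaf.germ N x hxN) (hg true)).trans ?_
  exact (X.presheaf.germ_res_apply (homOfLE hNW) x hxN t').trans ht'

set_option maxHeartbeats 800000 in
/-- Connected, Cohen–Macaulay and equidimensional. -/
theorem oneDim_props (k : Type u) [Field k] [X.Over (Spec (CommRingCat.of k))]
    [IsProper (X ↘ Spec (CommRingCat.of k))] (hdim : topologicalKrullDim X = 1)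
    (h0 : Module.finrank k (Coh.HH X (Coh.structureModule X) 0) = 1) :
    ConnectedSpace X ∧ (∀ x : X, LocCoh.IsCohenMacaulayLocalRing (X.presheaf.stalk x)) ∧
      ∀ Z ∈ irreducibleComponents (X : Type u), topologicalKrullDim Z = 1 := by
  haveI := CurveCohLib.isNoetherian_of_proper (k := k) (X := X)
  haveI hconn := CurveBC.connectedSpace_of_h0 k X h0
  have hbij := CurveBC.bijective_appTop k X h0
  refine ⟨hconn, fun x => ?_, fun Z hZ => ?_⟩
  · refine S3029.cm_of_closedPoints k X (X ↘ Spec (CommRingCat.of k)) (fun y hy => ?_) x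
    refine { supportDim_eq_depth := le_antisymm ?_ (LC.depth_le_supportDim _) }
    rw [Module.supportDim_self_eq_ringKrullDim]
    by_cases hf : IsField (X.presheaf.stalk y)
    · rw [ringKrullDim_eq_zero_of_isField hf]; exact WithBot.coe_le_coe.2 bot_le
    · refine ((SchTop.ringKrullDim_stalk_le y).trans hdim.le).trans (WithBot.coe_le_coe.2 ?_)
      refine Alg6.one_le_depth_iff.2 fun hass => ?_
      obtain ⟨-, z, hz⟩ := Alg6.mem_ass_iff.mp hass
      obtain ⟨g, hg⟩ := exists_global_germ hy z fun b hb => (hz b).1 hb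
      obtain ⟨c, hc⟩ := hbij.2 g
      obtain ⟨r, rfl⟩ := (ConcreteCategory.bijective_of_isIso (Scheme.ΓSpecIso (CommRingCat.of k)).inv).2 c
      rcases eq_or_ne r 0 with rfl | hr
      · rw [map_zero, map_zero] at hc
        rw [← hc, map_zero] at hg
        exact (maximalIdeal.isMaximal (X.presheaf.stalk y)).ne_top
          ((Ideal.eq_top_iff_one _).2 ((hz 1).2 (by rw [← hg, smul_zero])))
      · have hu : IsUnit z := by
          rw [← hg, ← hc]
          exact ((((isUnit_iff_ne_zero.2 hr).map (Scheme.ΓSpecIso (CommRingCat.of k)).inv.hom).map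
            (X ↘ Spec (CommRingCat.of k)).appTop.hom).map (X.presheaf.germ ⊤ y trivial).hom)
        refine hf (isField_iff_maximalIdeal_eq.2 (eq_bot_iff.2 fun b hb => ?_))
        have h1 := (hz b).1 hb
        exact (hu.mul_left_eq_zero).1 (by rw [← smul_eq_mul]; exact h1)
  · have hZc := isClosed_of_mem_irreducibleComponents Z hZ
    refine le_antisymm ((hZc.isClosedEmbedding_subtypeVal.isInducing.topologicalKrullDim_le).trans hdim.le) ?_
    by_contra hlt
    have hd0 : topologicalKrullDim Z ≤ 0 := by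
      have h := not_le.1 hlt
      generalize topologicalKrullDim Z = d at h
      rcases d with _ | d
      · exact bot_le
      · have h' : d < 1 := WithBot.coe_lt_coe.1 h
        exact WithBot.coe_le_coe.2 (ENat.lt_one_iff_eq_zero.1 h').le
    obtain ⟨η, hη⟩ := QuasiSober.sober hZ.1 hZc
    have hηZ : η ∈ Z := hη.def.le (subset_closure rfl)
    have hcl : closure ({η} : Set X) = {η} := Euler.closure_eq_self_of_dim_le_zero hZc hd0 hηZ
    have hZη : Z = {η} := hη.def.symm.trans hcl
    have hopen : IsOpen ({η} : Set X) := Triage.SliceCM.isOpen_singleton_of_minimal_scheme η (hZη ▸ hZc) fun w hw => by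
      have hle : Z ⊆ closure ({w} : Set X) := by rw [hZη]; exact Set.singleton_subset_iff.2 hw.mem_closure
      have := hZ.2 isIrreducible_singleton.closure hle (subset_closure rfl)
      rwa [hZη] at this
    have huniv : ({η} : Set X) = Set.univ :=
      IsClopen.eq_univ ⟨hZη ▸ hZc, hopen⟩ (Set.singleton_nonempty η)
    have hXZ : topologicalKrullDim X ≤ topologicalKrullDim Z := by
      rw [hZη, huniv]
      exact ((Homeomorph.Set.univ X).isHomeomorph.topologicalKrullDim_eq).ge
    rw [hdim] at hXZ
    exact hlt hXZ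

end Groth.Agent.CurveGenusCmp
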