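import Groth.Agent.CurveGenusCmp.Finite
import Groth.Agent.VarDim.Top
import Mathlib.AlgebraicGeometry.ZariskisMainTheorem

/-!
# Proper birational maps of curves are finite
-/

set_option linter.style.haveILetI false
set_option backward.isDefEq.respectTransparency false
set_option backward.isDefEq.respectTransparency.types false

universe u

open CategoryTheory CategoryTheory.Limits AlgebraicGeometry TopologicalSpace

namespace Groth.Agent.CurveGenusCmp

variable {k : Type u} [Field k] {X X' : Scheme.{u}} (p : X ⟶ Spec (CommRingCat.of k)) [IsProper p]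
  (f : X' ⟶ X) [IsProper f]

include p in
theorem dim_le_one (hdim : topologicalKrullDim X ≤ 1) (U : X.Opens)
    (hU' : Dense ((f ⁻¹ᵁ U : X'.Opens) : Set X')) (hfU : IsIso (f ∣_ U)) :
    topologicalKrullDim X' ≤ 1 := by
  rw [VarDim.topologicalKrullDim_eq_iSup_deg (f ≫ p)]
  refine iSup_le fun x => ?_
  obtain ⟨η, hη⟩ := QuasiSober.sober (irreducibleComponent_mem_irreducibleComponents x).1
    isClosed_irreducibleComponent
  have hx : η ⤳ x := specializes_iff_mem_closure.2 (hη.def.ge mem_irreducibleComponent)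
  have hηU : η ∈ f ⁻¹ᵁ U := by
    by_contra h
    haveI : CompactSpace X' := QuasiCompact.compactSpace_of_compactSpace (f ≫ p)
    haveI : IsLocallyNoetherian X' := LocallyOfFiniteType.isLocallyNoetherian (f ≫ p)
    haveI : IsNoetherian X' := { __ := ‹IsLocallyNoetherian X'›, __ := ‹CompactSpace X'› }
    let S := irreducibleComponents (X' : Type u)
    let T : Set X' := ⋃ Z ∈ S \ {irreducibleComponent x}, Z
    have hT : IsClosed T := (NoetherianSpace.finite_irreducibleComponents.sdiff).isClosed_biUnion fun Z hZ =>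
      isClosed_of_mem_irreducibleComponents Z hZ.1
    have hηT : η ∉ T := fun h' => by
      obtain ⟨Z, ⟨hZ, hne⟩, hηZ⟩ := Set.mem_iUnion₂.1 h'
      have hle : irreducibleComponent x ⊆ Z := hη.def ▸
        (isClosed_of_mem_irreducibleComponents Z hZ).closure_subset_iff.2 (Set.singleton_subset_iff.2 hηZ)
      exact hne (Set.mem_singleton_iff.2
        ((irreducibleComponent_mem_irreducibleComponents x).eq_of_ge hZ.1 hle).symm.symm)
    obtain ⟨z, hzT, hzU⟩ := hU'.inter_open_nonempty _ hT.isOpen_compl ⟨η, hηT⟩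
    have hz : z ∈ irreducibleComponent x := by
      by_contra h2
      exact hzT (Set.mem_iUnion₂.2 ⟨_, ⟨irreducibleComponent_mem_irreducibleComponents z, fun e =>
        h2 (Set.mem_singleton_iff.1 e ▸ mem_irreducibleComponent)⟩, mem_irreducibleComponent⟩)
    exact h ((specializes_iff_mem_closure.2 (hη.def.ge hz)).mem_open (f ⁻¹ᵁ U).2 hzU)
  have h1 : VarDim.deg (f ≫ p) η = VarDim.deg p (f η) := by
    let w : (f ⁻¹ᵁ U).toScheme := ⟨η, hηU⟩
    have e1 := VarDim.deg_comp (f ≫ p) (f ⁻¹ᵁ U).ι w
    have e2 := VarDim.deg_comp p ((f ∣_ U) ≫ U.ι) w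
    simp only [morphismRestrict_ι, Category.assoc] at e1 e2
    exact e1.symm.trans e2
  calc ((VarDim.deg (f ≫ p) x : ℕ∞) : WithBot ℕ∞) ≤ ((VarDim.deg (f ≫ p) η : ℕ∞) : WithBot ℕ∞) := by
        exact_mod_cast VarDim.deg_le_of_specializes (f ≫ p) hx
    _ ≤ 1 := by
      rw [h1]
      exact ((le_iSup (fun y : X => ((VarDim.deg p y : ℕ∞) : WithBot ℕ∞)) (f η)).trans
        (VarDim.topologicalKrullDim_eq_iSup_deg p).ge).trans hdim

include p in
theorem isFinite_of_birational (hdim : topologicalKrullDim X ≤ 1) (U : X.Opens)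
    (hU' : Dense ((f ⁻¹ᵁ U : X'.Opens) : Set X')) (hfU : IsIso (f ∣_ U)) : IsFinite f := by
  haveI : CompactSpace X' := QuasiCompact.compactSpace_of_compactSpace (f ≫ p)
  haveI : IsLocallyNoetherian X' := LocallyOfFiniteType.isLocallyNoetherian (f ≫ p)
  haveI : IsNoetherian X' := { __ := ‹IsLocallyNoetherian X'›, __ := ‹CompactSpace X'› }
  have hd := dim_le_one p f hdim U hU' hfU
  have hfin : ((f ⁻¹ᵁ U : X'.Opens) : Set X')ᶜ.Finite :=
    CurveCohLib.finite_of_closedPoints (f ⁻¹ᵁ U).2.isClosed_compl fun x hx => isClosed_of_notMem hd hU' hx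
  suffices h : ∀ y, (f ⁻¹' {y}).Finite by
    haveI : LocallyQuasiFinite f := locallyQuasiFinite_iff_finite_preimage_singleton.2 h
    exact IsFinite.of_isProper_of_locallyQuasiFinite f
  intro y
  by_cases hy : y ∈ U
  · refine Set.Subsingleton.finite fun a ha b hb => ?_
    have := (f ∣_ U).homeomorph.injective (a₁ := (⟨a, show f a ∈ U by rw [show f a = y from ha]; exact hy⟩ : f ⁻¹ᵁ U))
      (a₂ := (⟨b, show f b ∈ U by rw [show f b = y from hb]; exact hy⟩ : f ⁻¹ᵁ U))
      (Subtype.ext (((morphismRestrict_base_coe f U _).trans (ha.trans hb.symm)).trans (morphismRestrict_base_coe f U _).symm))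
    exact congrArg Subtype.val this
  · exact hfin.subset fun a ha h => hy ((show f a = y from ha) ▸ h)

end Groth.Agent.CurveGenusCmp
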