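import Groth.Agent.CurveReg.Vanish
import Groth.Agent.PnCoh.Finite.HHLin
import Groth.Agent.PnCoh.PushNat
import Groth.Agent.QCoh.Devissage
import Groth.Agent.CurveCohLib.Proper
import Groth.Agent.Synt29.KoszulSyntomic

/-!
# Comparing first cohomology of structure sheaves along finite maps of curves
-/

set_option linter.style.haveILetI false
set_option linter.unusedSectionVars false
set_option backward.isDefEq.respectTransparency false
set_option backward.isDefEq.respectTransparency.types false

universe u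

open CategoryTheory CategoryTheory.Limits AlgebraicGeometry TopologicalSpace Opposite
open Groth.Agent.PnCoh.Finite (mapLin)
open CategoryTheory.Abelian

noncomputable section

namespace Groth.Agent.CurveGenusCmp

variable {X Y : Scheme.{u}} (f : Y ⟶ X)

/-- The canonical map `O_X ⟶ f_* O_Y`. -/
def unitMap : Coh.structureModule X ⟶ (Coh.push f).obj (Coh.structureModule Y) :=
  QCoh.homOfTop (show Γ((Coh.push f).obj (Coh.structureModule Y), ⊤) from (1 : Γ(Y, f ⁻¹ᵁ ⊤)))

theorem unitMap_app {W : X.Opens} (r : Γ(X, W)) :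
    (unitMap f).app W r = (show Γ((Coh.push f).obj (Coh.structureModule Y), W) from f.app W r) := by
  rw [unitMap, QCoh.homOfTop_app]
  show (f.app W r) * _ = f.app W r
  refine Eq.trans (congrArg (fun z => f.app W r * z) ?_) (mul_one _)
  exact map_one (Y.presheaf.map _).hom

/-- In a Noetherian space of dimension at most one the complement of a dense open consists of closed points. -/
theorem isClosed_of_notMem [IsNoetherian X] (hdim : topologicalKrullDim X ≤ 1) {U : X.Opens}
    (hU : Dense (U : Set X)) {x : X} (hx : x ∉ U) : IsClosed ({x} : Set X) := by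
  refine (CurveReg.isClosed_or_generic hdim x).resolve_right fun hgen => hx ?_
  let S := irreducibleComponents (X : Type u)
  let T : Set X := ⋃ Z ∈ S \ {closure {x}}, Z
  have hT : IsClosed T := (NoetherianSpace.finite_irreducibleComponents.sdiff).isClosed_biUnion fun Z hZ =>
    isClosed_of_mem_irreducibleComponents Z hZ.1
  have hne : (Tᶜ).Nonempty := by
    refine ⟨x, fun h => ?_⟩
    obtain ⟨Z, ⟨hZ, hne⟩, hxZ⟩ := Set.mem_iUnion₂.1 h
    exact hne (Set.mem_singleton_iff.2 (hgen.eq_of_ge hZ.1
      ((isClosed_of_mem_irreducibleComponents Z hZ).closure_subset_iff.2 (Set.singleton_subset_iff.2 hxZ))).symm.symm)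
  obtain ⟨z, hzT, hzU⟩ := hU.inter_open_nonempty _ hT.isOpen_compl hne
  have hzx : z ∈ closure ({x} : Set X) := by
    by_contra h
    exact hzT (Set.mem_iUnion₂.2 ⟨_, ⟨irreducibleComponent_mem_irreducibleComponents z, fun e =>
      h ((Set.mem_singleton_iff.1 e) ▸ mem_irreducibleComponent)⟩, mem_irreducibleComponent⟩)
  exact (specializes_iff_mem_closure.2 hzx).mem_open U.2 hzU

theorem subsingleton_stalk_cokernel {P Q C : X.Modules} (j : P ⟶ Q) (π : C ⟶ P) (g : Q ⟶ cokernel j) (hg : g = cokernel.π j)
    {x : X} (h : ∀ z : Q.presheaf.stalk x, ∃ (W : X.Opens) (hxW : x ∈ W) (r : Γ(C, W)),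
      Q.presheaf.germ W x hxW ((π ≫ j).app W r) = z) :
    Subsingleton ((cokernel j).presheaf.stalk x) := by
  let S := DerSch.stalkFunctor X x
  haveI : Epi (S.map g) := by rw [hg]; infer_instance
  refine subsingleton_of_forall_eq 0 fun y => ?_
  obtain ⟨z, rfl⟩ := (ModuleCat.epi_iff_surjective (S.map g)).1 inferInstance y
  obtain ⟨W, hxW, r, rfl⟩ := h z
  refine (KFlatLib.stalkModMap_germ (DCoh.toP.map g) W hxW _).trans ?_
  have h0 : (π ≫ j ≫ g).app W r = 0 := by rw [hg, cokernel.condition, Limits.comp_zero]; rfl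
  show (cokernel j).presheaf.germ W x hxW (g.app W ((π ≫ j).app W r)) = _
  rw [show g.app W ((π ≫ j).app W r) = (π ≫ j ≫ g).app W r from rfl, h0, map_zero]

theorem surjective_H_map {Y : TopCat.{u}} {T : ShortComplex (CohTop.Ab Y)} (hT : T.ShortExact) (q : ℕ)
    (h : Subsingleton (CohTop.H T.X₃ q)) : Function.Surjective (Sheaf.H.map T.f q) := fun x =>
  Ext.covariant_sequence_exact₂ _ hT x (h.elim _ _)

set_option maxHeartbeats 1000000 in
/-- `H¹` does not grow along a finite map that is a closed immersion over a dense open. -/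
theorem genus_le (k : Type u) [Field k] [X.Over (Spec (CommRingCat.of k))] [Y.Over (Spec (CommRingCat.of k))]
    [IsProper (X ↘ Spec (CommRingCat.of k))] (hdim : topologicalKrullDim X ≤ 1) [IsFinite f]
    (hf : f ≫ (X ↘ Spec (CommRingCat.of k)) = Y ↘ Spec (CommRingCat.of k))
    (U : X.Opens) (hU : Dense (U : Set X)) (hfU : IsClosedImmersion (f ∣_ U)) :
    Curv2.genus k Y ≤ Curv2.genus k X := by
  haveI := CurveCohLib.isNoetherian_of_proper (k := k) (X := X)
  haveI : X.IsSeparated := ⟨by
    rw [← terminal.comp_from (X ↘ Spec (CommRingCat.of k))]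
    infer_instance⟩
  have hO : Coh.IsQCoh (Coh.structureModule X) := QCoh.isQCoh_structureModule
  have hQ : Coh.IsQCoh ((Coh.push f).obj (Coh.structureModule Y)) :=
    QCoh.isQCoh_pushforward f QCoh.isQCoh_structureModule
  let u := unitMap f
  let π := Abelian.coimage.π u
  let j := Abelian.factorThruCoimage u
  have hfac : π ≫ j = u := Abelian.coimage.fac u
  have hS₁ : (ShortComplex.mk (kernel.ι u) π (cokernel.condition _)).ShortExact :=
    { exact := ShortComplex.exact_of_g_is_cokernel _ (cokernelIsCokernel _) }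
  have hS₂ : (ShortComplex.mk j (cokernel.π j) (cokernel.condition j)).ShortExact :=
    { exact := ShortComplex.exact_of_g_is_cokernel _ (cokernelIsCokernel _) }
  have hK : Subsingleton (Coh.HH X (kernel u) 2) :=
    CurveReg.subsingleton_HH_ge_two hdim (QCoh.isQCoh_kernel hO hQ u) 0
  have hcl : ∀ x ∈ ((U : Set X)ᶜ), IsClosed ({x} : Set X) := fun x hx => isClosed_of_notMem hdim hU hx
  have hC : Subsingleton (Coh.HH X (cokernel j) 1) := by
    refine CurveVanish.subsingleton_HH_of_finite (CurveCohLib.finite_of_closedPoints U.2.isClosed_compl hcl) hcl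
      (fun x hx => subsingleton_stalk_cokernel j π _ rfl fun z => ?_) 0
    have hxU : x ∈ U := not_not.1 hx
    obtain ⟨V, hxV, m, rfl⟩ := TopCat.Presheaf.exists_germ_eq ((Coh.push f).obj (Coh.structureModule Y)).presheaf z
    obtain ⟨W, hW, hxW, hWle⟩ := exists_isAffineOpen_mem_and_subset (x := x) (U := V ⊓ U) ⟨hxV, hxU⟩
    have hWV : W ≤ V := fun y hy => (hWle hy).1
    have hWU : W ≤ U := fun y hy => (hWle hy).2
    haveI : IsClosedImmersion (f ∣_ W) := by
      haveI : IsClosedImmersion (f ∣_ U ∣_ (U.ι ⁻¹ᵁ W)) :=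
        IsZariskiLocalAtTarget.restrict hfU _
      refine (MorphismProperty.arrow_mk_iso_iff @IsClosedImmersion
        (morphismRestrictRestrict f U (U.ι ⁻¹ᵁ W) ≪≫ morphismRestrictEq f ?_)).1 inferInstance
      rw [Scheme.Hom.image_preimage_eq_opensRange_inf, Scheme.Opens.opensRange_ι, inf_eq_right.2 hWU]
    obtain ⟨-, hsurj⟩ := Synt29.surjective_app_of_isClosedImmersion_restrict f W hW
    obtain ⟨r, hr⟩ := hsurj ((Y.presheaf.map (homOfLE (fun y hy => hWV hy : f ⁻¹ᵁ W ≤ f ⁻¹ᵁ V)).op) m)
    refine ⟨W, hxW, r, ?_⟩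
    rw [hfac, unitMap_app, hr]
    exact ((Coh.push f).obj (Coh.structureModule Y)).presheaf.germ_res_apply (homOfLE hWV) x hxW m
  have h1 : Function.Surjective (mapLin k π 1) := fun y =>
    PnCoh.Finite.exists_of_deltaLin_eq_zero k hS₁ 1 (hK.elim _ _)
  have h2 : Function.Surjective (mapLin k j 1) :=
    surjective_H_map (Y := X.toPresheafedSpace.carrier) (T := (ShortComplex.mk j (cokernel.π j) (cokernel.condition j)).map (QCoh.toAbFunctor X))
      (QCoh.toAb_shortExact hS₂) 1 hC
  haveI : Module.Finite k (Coh.HH X (Coh.structureModule X) 1) :=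
    CurveCohLib.finite_HH QCoh.isCoh_structureModule' 1
  obtain ⟨e⟩ := PnCoh.exists_linearEquiv_push k f hf (M := Coh.structureModule Y) QCoh.isQCoh_structureModule 1
  unfold Curv2.genus
  rw [e.finrank_eq]
  exact LinearMap.finrank_le_finrank_of_surjective (f := (mapLin k j 1).comp (mapLin k π 1)) (h2.comp h1)

end Groth.Agent.CurveGenusCmp
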