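import Groth.Agent.CurveGenusCmp.Birational
import Groth.Agent.Lib.RegDescent
import Groth.Agent.MorLib.Birat

/-!
# A birational map with equal genus is an isomorphism
-/

set_option linter.style.haveILetI false
set_option linter.unusedSectionVars false
set_option backward.isDefEq.respectTransparency false
set_option backward.isDefEq.respectTransparency.types false

universe u

open CategoryTheory CategoryTheory.Limits AlgebraicGeometry TopologicalSpace Opposite

noncomputable section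

namespace Groth.Agent.CurveGenusCmp

variable {X Y : Scheme.{u}} (f : Y ⟶ X)

theorem app_injective_of_dense [IsReduced X] (U : X.Opens) (hU : Dense (U : Set X)) (hfU : IsIso (f ∣_ U))
    (W : X.Opens) : Function.Injective (f.app W) := by
  refine (injective_iff_map_eq_zero _).2 fun s hs => eq_zero_of_basicOpen_eq_bot s ?_
  by_contra hne
  obtain ⟨z, hzs, hzU⟩ := hU.inter_open_nonempty _ (X.basicOpen s).2 ((Opens.ne_bot_iff_nonempty _).1 hne)
  obtain ⟨y, hy⟩ := (f ∣_ U).homeomorph.surjective ⟨z, hzU⟩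
  have hfy : f y.1 = z := (morphismRestrict_base_coe f U y).symm.trans (congrArg Subtype.val hy)
  have hmem : y.1 ∈ f ⁻¹ᵁ X.basicOpen s := show f y.1 ∈ X.basicOpen s from hfy ▸ hzs
  rw [Scheme.preimage_basicOpen, hs, Scheme.basicOpen_zero] at hmem
  exact hmem

theorem isIso_app_of_isIso_restrict (U W : X.Opens) [IsIso (f ∣_ U)] (h : W ≤ U) : IsIso (f.app W) := by
  have e : U.ι ''ᵁ (U.ι ⁻¹ᵁ W) = W := by
    rw [Scheme.Hom.image_preimage_eq_opensRange_inf, Scheme.Opens.opensRange_ι, inf_eq_right.2 h]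
  haveI : IsIso ((f ∣_ U).app (U.ι ⁻¹ᵁ W)) := inferInstance
  rw [morphismRestrict_app] at this
  haveI : IsIso (f.app (U.ι ''ᵁ (U.ι ⁻¹ᵁ W))) := IsIso.of_isIso_comp_right _ (Y.presheaf.map (eqToHom (image_morphismRestrict_preimage f U _)).op)
  rwa [e] at this

theorem isIso_of_isIso_app [IsAffineHom f] (h : ∀ W : X.Opens, IsIso (f.app W)) : IsIso f := by
  refine (IsZariskiLocalAtTarget.iff_of_iSup_eq_top (P := MorphismProperty.isomorphisms Scheme.{u})
    (fun W : X.affineOpens => W.1) (iSup_affineOpens_eq_top X)).2 fun W => ?_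
  haveI : IsAffine W.1.toScheme := W.2
  haveI : IsAffine (f ⁻¹ᵁ W.1).toScheme := W.2.preimage f
  haveI := h (W.1.ι ''ᵁ ⊤)
  haveI : IsIso (f ∣_ W.1).appTop := by
    rw [morphismRestrict_appTop]; infer_instance
  exact MorLib.Birat.isIso_of_appTop (f ∣_ W.1)

theorem exists_global_of_stalk {C : X.Modules} {T : Set X} (hT : T.Finite)
    (hcl : ∀ x ∈ T, IsClosed ({x} : Set X)) (h0 : ∀ x, x ∉ T → Subsingleton (C.presheaf.stalk x))
    (x : X) (z : C.presheaf.stalk x) : ∃ g : Γ(C, ⊤), C.presheaf.germ ⊤ x trivial g = z := by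
  obtain ⟨V, hxV, t, rfl⟩ := TopCat.Presheaf.exists_germ_eq C.presheaf z
  have hzero : ∀ (W : X.Opens), (∀ y ∈ W, y ∉ T) → ∀ s : Γ(C, W), s = 0 := fun W hW s => by
    refine QCoh.eq_zero_of_locally W s fun y hy => ?_
    haveI := h0 y (hW y hy)
    obtain ⟨V', hyV, i, j, h⟩ := C.presheaf.germ_eq y hy hy s 0 (Subsingleton.elim _ _)
    exact ⟨V', i, hyV, h.trans (map_zero _)⟩
  by_cases hxT : x ∈ T
  swap
  · exact ⟨0, @Subsingleton.elim _ (h0 x hxT) _ _⟩
  have hTd : IsClosed (T \ {x}) := by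
    have := Set.Finite.isClosed_biUnion (hT.sdiff (t := {x})) (f := fun y => ({y} : Set X)) fun y hy => hcl y hy.1
    rwa [Set.biUnion_of_singleton] at this
  let N : X.Opens := ⟨(T \ {x})ᶜ, hTd.isOpen_compl⟩
  let O : X.Opens := ⟨{x}ᶜ, (hcl x hxT).isOpen_compl⟩
  let P : Bool → X.Opens := fun b => cond b (V ⊓ N) O
  let sec : ∀ b, Γ(C, P b) := fun b => Bool.rec (motive := fun b => Γ(C, P b)) 0 (AModX.res C inf_le_left t) b
  have hmid : ∀ W : X.Opens, (∀ y ∈ W, y ∈ N ∧ y ∈ O) → ∀ s : Γ(C, W), s = 0 := fun W hW => hzero W fun y hy hyT =>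
    (hW y hy).1 ⟨hyT, fun e => (hW y hy).2 e⟩
  obtain ⟨g, hg, -⟩ := TopCat.Sheaf.existsUnique_gluing' ⟨C.presheaf, C.isSheaf⟩ P ⊤ (fun b => homOfLE le_top)
    (fun y _ => by
      by_cases hyx : y = x
      · exact Opens.mem_iSup.2 ⟨true, hyx ▸ hxV, fun h => h.2 hyx⟩
      · exact Opens.mem_iSup.2 ⟨false, hyx⟩) sec
    (fun a b => by
      cases a <;> cases b
      · rfl
      · exact (hmid (O ⊓ (V ⊓ N)) (fun y hy => ⟨hy.2.2, hy.1⟩) _).trans (hmid (O ⊓ (V ⊓ N)) (fun y hy => ⟨hy.2.2, hy.1⟩) _).symm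
      · exact (hmid ((V ⊓ N) ⊓ O) (fun y hy => ⟨hy.1.2, hy.2⟩) _).trans (hmid ((V ⊓ N) ⊓ O) (fun y hy => ⟨hy.1.2, hy.2⟩) _).symm
      · rfl)
  refine ⟨g, ?_⟩
  have hxN : x ∈ V ⊓ N := ⟨hxV, fun h => h.2 rfl⟩
  refine (C.presheaf.germ_res_apply (homOfLE (le_top : V ⊓ N ≤ ⊤)) x hxN g).symm.trans ?_
  refine (congrArg (C.presheaf.germ (V ⊓ N) x hxN) (hg true)).trans ?_
  exact C.presheaf.germ_res_apply (homOfLE inf_le_left) x hxN t

set_option maxHeartbeats 1000000 in
theorem isIso_of_genus_eq (k : Type u) [Field k] [X.Over (Spec (CommRingCat.of k))] [Y.Over (Spec (CommRingCat.of k))]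
    [IsProper (X ↘ Spec (CommRingCat.of k))] [IsReduced X] (hdim : topologicalKrullDim X ≤ 1) [IsFinite f]
    (hf : f ≫ (X ↘ Spec (CommRingCat.of k)) = Y ↘ Spec (CommRingCat.of k))
    (U : X.Opens) (hU : Dense (U : Set X)) (hfU : IsIso (f ∣_ U))
    (h0 : Function.Surjective (f.app ⊤).hom) (h1 : Curv2.genus k Y = Curv2.genus k X) : IsIso f := by
  haveI := CurveCohLib.isNoetherian_of_proper (k := k) (X := X)
  have hO : Coh.IsQCoh (Coh.structureModule X) := QCoh.isQCoh_structureModule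
  have hQ : Coh.IsQCoh ((Coh.push f).obj (Coh.structureModule Y)) :=
    QCoh.isQCoh_pushforward f QCoh.isQCoh_structureModule
  let u := unitMap f
  haveI hu : Mono u := QCoh.mono_of_app_injective _ fun W a b hab => by
    rw [unitMap_app, unitMap_app] at hab
    exact app_injective_of_dense f U hU hfU W hab
  let S := ShortComplex.mk u (cokernel.π u) (cokernel.condition u)
  have hS : S.ShortExact := { exact := ShortComplex.exact_of_g_is_cokernel _ (cokernelIsCokernel _) }
  have hcl : ∀ x ∈ ((U : Set X)ᶜ), IsClosed ({x} : Set X) := fun x hx => isClosed_of_notMem hdim hU hx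
  have hfin := CurveCohLib.finite_of_closedPoints U.2.isClosed_compl hcl
  have hC0 : ∀ x, x ∉ ((U : Set X)ᶜ) → Subsingleton ((cokernel u).presheaf.stalk x) := fun x hx =>
    subsingleton_stalk_cokernel u (𝟙 _) _ rfl fun z => by
      haveI := hfU
      obtain ⟨V, hxV, m, rfl⟩ := TopCat.Presheaf.exists_germ_eq ((Coh.push f).obj (Coh.structureModule Y)).presheaf z
      let W := V ⊓ U
      haveI : IsIso (f.app W) := (isIso_app_of_isIso_restrict f U W inf_le_right)
      obtain ⟨r, hr⟩ := (ConcreteCategory.bijective_of_isIso (f.app W)).2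
        ((Y.presheaf.map (homOfLE (fun y hy => hy.1 : f ⁻¹ᵁ W ≤ f ⁻¹ᵁ V)).op) m)
      refine ⟨W, ⟨hxV, not_not.1 hx⟩, r, ?_⟩
      rw [Category.id_comp, unitMap_app, hr]
      exact ((Coh.push f).obj (Coh.structureModule Y)).presheaf.germ_res_apply
        (homOfLE (inf_le_left : W ≤ V)) x ⟨hxV, not_not.1 hx⟩ m
  have hC1 : Subsingleton (Coh.HH X (cokernel u) 1) := CurveVanish.subsingleton_HH_of_finite hfin hcl hC0 0
  have hs : Function.Surjective (Canon.HHlin k u 1) := RegDescent.HHlin_f_surjective hS 1 hC1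
  obtain ⟨e⟩ := PnCoh.exists_linearEquiv_push k f hf (M := Coh.structureModule Y) QCoh.isQCoh_structureModule 1
  haveI : Module.Finite k (Coh.HH X (Coh.structureModule X) 1) :=
    CurveCohLib.finite_HH QCoh.isCoh_structureModule' 1
  haveI : Module.Finite k (Coh.HH X ((Coh.push f).obj (Coh.structureModule Y)) 1) :=
    Module.Finite.of_surjective _ hs
  have hrk : Module.finrank k (Coh.HH X (Coh.structureModule X) 1) =
      Module.finrank k (Coh.HH X ((Coh.push f).obj (Coh.structureModule Y)) 1) := h1.symm.trans e.finrank_eq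
  have hinj : Function.Injective (Canon.HHlin k u 1) :=
    (LinearMap.injective_iff_surjective_of_finrank_eq_finrank hrk).2 hs
  have hg : Function.Surjective (S.g.app ⊤) := RegDescent.g_app_surjective_of_injective hS hinj
  have hC : ∀ x, Subsingleton ((cokernel u).presheaf.stalk x) := fun x => subsingleton_of_forall_eq 0 fun z => by
    obtain ⟨g, rfl⟩ := exists_global_of_stalk hfin hcl hC0 x z
    obtain ⟨m, rfl⟩ := hg g
    obtain ⟨r, rfl⟩ : ∃ r : Γ(X, ⊤), u.app ⊤ r = m := by
      obtain ⟨r, hr⟩ := h0 m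
      exact ⟨r, (unitMap_app f r).trans hr⟩
    rw [show S.g.app ⊤ (u.app ⊤ r) = (u ≫ cokernel.π u).app ⊤ r from rfl, cokernel.condition]
    exact map_zero _
  haveI : IsIso u := by
    haveI : Epi u := Preadditive.epi_of_isZero_cokernel u (CurveCohLib.isZero_of_subsingleton_stalks hC)
    exact isIso_of_mono_of_epi u
  have happ : ∀ W : X.Opens, IsIso (f.app W) := fun W => by
    refine (ConcreteCategory.isIso_iff_bijective _).2 ⟨app_injective_of_dense f U hU hfU W, fun m => ?_⟩
    refine ⟨(inv u).app W m, (unitMap_app f _).symm.trans ?_⟩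
    exact congrArg (fun φ => φ.app W m) (IsIso.inv_hom_id u)
  exact isIso_of_isIso_app f happ

end Groth.Agent.CurveGenusCmp
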